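import Cfsg.Agent.CF.Sections
import Cfsg.Prelude.Def_PLocal

/-!
When `W(T)` is normal and contains `Ω₁Z(T)`: the factorization `X = N(W'(T)) C(Ω₁Z(T))` passes from
the constrained sections to all sections.
-/

set_option autoImplicit false

namespace Cfsg.Agent.CF

open Cfsg.Agent.Fusion

/-- `Ω₁Z(P)`. -/
abbrev omZ (p : ℕ) {X : Type*} [Group X] (P : Subgroup X) : Subgroup X :=
  Cfsg.omegaOne p (P ⊓ Subgroup.centralizer (P : Set X))

theorem omZ_le_inf (p : ℕ) {X : Type*} [Group X] (P : Subgroup X) :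
    omZ p P ≤ P ⊓ Subgroup.centralizer (P : Set X) :=
  (Subgroup.closure_le _).mpr fun _ hx => hx.1

theorem omZ_le (p : ℕ) {X : Type*} [Group X] (P : Subgroup X) : omZ p P ≤ P :=
  (omZ_le_inf p P).trans inf_le_left

theorem pow_eq_one_of_mem_omZ {p : ℕ} {X : Type*} [Group X] {P : Subgroup X} :
    ∀ z ∈ omZ p P, z ^ p = 1 := by
  intro z hz
  refine (Subgroup.closure_induction
    (p := fun z _ => z ^ p = 1 ∧ z ∈ P ⊓ Subgroup.centralizer (P : Set X))
    (fun x hx => ⟨hx.2, hx.1⟩) ⟨one_pow _, Subgroup.one_mem _⟩ ?_ ?_ hz).1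
  · intro x y _ _ hx hy
    have hc : Commute x y := (Subgroup.mem_centralizer_iff.mp hx.2.2 y hy.2.1).symm
    exact ⟨by rw [hc.mul_pow, hx.1, hy.1, one_mul], Subgroup.mul_mem _ hx.2 hy.2⟩
  · intro x _ hx
    exact ⟨by rw [inv_pow, hx.1, inv_one], Subgroup.inv_mem _ hx.2⟩

theorem omZ_map {p : ℕ} {X Y : Type*} [Group X] [Group Y] (f : X →* Y) {P : Subgroup X}
    (hf : ∀ x ∈ P, f x = 1 → x = 1) : omZ p (P.map f) = (omZ p P).map f := by
  rw [omZ, omZ, Cfsg.omegaOne, Cfsg.omegaOne, MonoidHom.map_closure]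
  congr 1
  ext y
  constructor
  · rintro ⟨⟨⟨x, hx, rfl⟩, hc⟩, hpow⟩
    refine ⟨x, ⟨⟨hx, Subgroup.mem_centralizer_iff.mpr fun a ha => ?_⟩, ?_⟩, rfl⟩
    · have h1 := Subgroup.mem_centralizer_iff.mp hc (f a) ⟨a, ha, rfl⟩
      refine mul_inv_eq_one.mp (hf _ (mul_mem (mul_mem ha hx) (inv_mem (mul_mem hx ha))) ?_)
      rw [map_mul, map_inv, map_mul, map_mul, h1, mul_inv_cancel]
    · exact hf _ (pow_mem hx p) (by rw [map_pow, hpow])
  · rintro ⟨x, ⟨⟨hx, hc⟩, hpow⟩, rfl⟩
    refine ⟨⟨⟨x, hx, rfl⟩, Subgroup.mem_centralizer_iff.mpr ?_⟩, by rw [← map_pow, hpow, map_one]⟩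
    rintro _ ⟨a, ha, rfl⟩
    rw [← map_mul, Subgroup.mem_centralizer_iff.mp hc a ha, map_mul]

universe u

variable {G : Type u} [Group G] [Finite G] {p : ℕ} [Fact p.Prime]
  {W W' : ∀ (Q : Type u) [Group Q], Subgroup Q}

theorem exists_mul_centralizer_omZ (hW : Cfsg.IsCharPFunctor.{u} p W)
    (hW' : Cfsg.IsCharPFunctor.{u} p W')
    (hfac : ∀ (X : Type u) [Group X] [Finite X], IsSec X G → Constrained p X → ∀ T : Sylow p X,
      ∀ x : X, ∃ a ∈ Subgroup.centralizer (omZ p (T : Subgroup X) : Set X),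
        ∃ b ∈ Nz (Cfsg.inducedFunctor W' (T : Subgroup X)), x = a * b)
    (X : Type u) [Group X] [Finite X] (hX : IsSec X G) (T : Sylow p X)
    (hZW : omZ p (T : Subgroup X) ≤ Cfsg.inducedFunctor W (T : Subgroup X))
    (hn : (Cfsg.inducedFunctor W (T : Subgroup X)).Normal) (x : X) :
    ∃ b ∈ Nz (Cfsg.inducedFunctor W' (T : Subgroup X)),
      ∃ c ∈ Subgroup.centralizer (omZ p (T : Subgroup X) : Set X), x = b * c := by
  suffices ∀ (n : ℕ) (X : Type u) [Group X] [Finite X], IsSec X G → Nat.card X = n →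
      ∀ T : Sylow p X, omZ p (T : Subgroup X) ≤ Cfsg.inducedFunctor W (T : Subgroup X) →
      (Cfsg.inducedFunctor W (T : Subgroup X)).Normal → ∀ x : X,
      ∃ b ∈ Nz (Cfsg.inducedFunctor W' (T : Subgroup X)),
        ∃ c ∈ Subgroup.centralizer (omZ p (T : Subgroup X) : Set X), x = b * c from
    this _ X hX rfl T hZW hn x
  intro n
  induction n using Nat.strong_induction_on with
  | _ n ih =>
    intro X _ _ hX hcard T hZW hn x
    set Z := omZ p (T : Subgroup X) with hZ
    set U := Cfsg.inducedFunctor W (T : Subgroup X) with hU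
    have hUT : U ≤ (T : Subgroup X) := W_le (isConjugacyFunctor_induced hW) T.2
    set V := Subgroup.normalClosure (Z : Set X) with hV
    have hZV : Z ≤ V := Subgroup.le_normalClosure
    have hVU : V ≤ U := by
      rw [hV]
      exact Subgroup.normalClosure_le_normal hZW
    set C := Subgroup.centralizer (V : Set X) with hC
    haveI : V.Normal := Subgroup.normalClosure_normal
    haveI : C.Normal := by rw [hC]; infer_instance
    have hCZ : C ≤ Subgroup.centralizer (Z : Set X) := Subgroup.centralizer_le hZV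
    have hUC : U ≤ C := by
      rw [hC, Subgroup.le_centralizer_iff, hV]
      haveI : (Subgroup.centralizer (U : Set X)).Normal := by infer_instance
      exact Subgroup.normalClosure_le_normal
        ((omZ_le_inf p _).trans (inf_le_right.trans (Subgroup.centralizer_le hUT)))
    by_cases hpp : Cfsg.pPrimeCore p X = ⊥
    swap
    · set N := Cfsg.pPrimeCore p X
      set π := QuotientGroup.mk' N
      have hsurj : Function.Surjective π := QuotientGroup.mk'_surjective N
      have hker : π.ker = N := QuotientGroup.ker_mk' N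
      have hco : (Nat.card π.ker).Coprime p := by rw [hker]; exact Cores.pPrimeCore_coprime
      have hinj : ∀ z ∈ (T : Subgroup X), π z = 1 → z = 1 := fun z hz hz1 =>
        eq_one_of_isP_of_coprime T.2 Cores.pPrimeCore_coprime hz ((QuotientGroup.eq_one_iff z).mp hz1)
      have eZ : omZ p ((T : Subgroup X).map π) = Z.map π := omZ_map π hinj
      have eW := inducedFunctor_map hW π T.2 hinj
      have eW' := inducedFunctor_map hW' π T.2 hinj
      obtain ⟨b', hb', c', hc', he⟩ := ih _ (hcard ▸ card_quotient_lt N hpp) (X ⧸ N)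
        (hX.quotient N) rfl (T.mapSurjective hsurj)
        (by
          show omZ p ((T : Subgroup X).map π) ≤ Cfsg.inducedFunctor W ((T : Subgroup X).map π)
          rw [eZ, eW]
          exact Subgroup.map_mono hZW)
        (by
          show (Cfsg.inducedFunctor W ((T : Subgroup X).map π)).Normal
          rw [eW]
          exact hn.map π hsurj) (π x)
      change b' ∈ Nz (Cfsg.inducedFunctor W' ((T : Subgroup X).map π)) at hb'
      change c' ∈ Subgroup.centralizer (omZ p ((T : Subgroup X).map π) : Set (X ⧸ N)) at hc'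
      rw [eW'] at hb'
      rw [eZ] at hc'
      obtain ⟨b, hb, rfl⟩ := exists_lift_normalizer hsurj hco
        (T.2.to_le (W_le (isConjugacyFunctor_induced hW') T.2)) hb'
      obtain ⟨c, hcn, rfl⟩ := exists_lift_normalizer hsurj hco (T.2.to_le (omZ_le p _))
        (Subgroup.centralizer_le_normalizer _ hc')
      have hc : c ∈ Subgroup.centralizer (Z : Set X) := by
        rw [Subgroup.mem_centralizer_iff]
        intro z hz
        have h1 : c * z * c⁻¹ ∈ Z := (cj_eq_of_mem hcn).le (conj_mem_cj.mpr hz)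
        have h2 := Subgroup.mem_centralizer_iff.mp hc' (π z) ⟨z, hz, rfl⟩
        have h3 : c * z * c⁻¹ * z⁻¹ = 1 :=
          hinj _ (omZ_le p _ (Z.mul_mem h1 (Z.inv_mem hz)))
            (by simp only [map_mul, map_inv, ← h2]; group)
        rw [mul_inv_eq_one, mul_inv_eq_iff_eq_mul] at h3
        exact h3.symm
      refine ⟨b, hb, c * ((b * c)⁻¹ * x), Subgroup.mul_mem _ hc (hCZ ?_), by group⟩
      have hmem : (b * c)⁻¹ * x ∈ N := by
        rw [← hker, MonoidHom.mem_ker, map_mul, map_inv, map_mul, ← he, inv_mul_cancel]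
      rw [hC, Subgroup.mem_centralizer_iff]
      intro v hv
      refine ((Subgroup.commute_of_normal_of_disjoint N V inferInstance inferInstance ?_ _ _
        hmem hv).eq).symm
      rw [Subgroup.disjoint_def]
      exact fun {y} hyN hyV => hinj y (hUT (hVU hyV)) ((QuotientGroup.eq_one_iff y).mpr hyN)
    set R := (T : Subgroup X) ⊓ C with hR
    by_cases hH : Nz R = ⊤
    · have hRQ : R ≤ Cfsg.pCore p X :=
        Cores.le_pCore (Subgroup.normalizer_eq_top_iff.mp hH) T.2.to_inf_left
      have hcons : Constrained p X := by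
        by_contra hcon
        refine not_inf_centralizer_le T hpp hcon ((le_inf inf_le_left ?_).trans hRQ)
        refine inf_le_right.trans (Subgroup.centralizer_le ?_)
        exact (le_inf (hVU.trans hUT) (hVU.trans hUC)).trans hRQ
      obtain ⟨a, ha, b, hb, he⟩ := hfac X hX hcons T x⁻¹
      exact ⟨b⁻¹, inv_mem hb, a⁻¹, inv_mem ha, by rw [← mul_inv_rev, ← he, inv_inv]⟩
    obtain ⟨c₀, hc₀, r, -, hr, he⟩ := (isSyl_sylow T).frattini (N := C) le_top
      (by rw [Nz, Subgroup.normalizer_eq_top]) (Subgroup.mem_top x)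
    set H := Nz R with hHdef
    have hTH : (T : Subgroup X) ≤ H := fun t ht => by
      rw [hHdef, mem_Nz, hR, cj_inf, cj_eq_self_of_mem ht, cj_eq_of_normal t C]
    let TH : Sylow p H := T.subtype hTH
    have hmap : (TH : Subgroup H).map H.subtype = (T : Subgroup X) :=
      Subgroup.map_subgroupOf_eq_of_le hTH
    have hinj : ∀ z ∈ (TH : Subgroup H), H.subtype z = 1 → z = 1 := fun z _ hz => Subtype.ext hz
    have eZ : Z = (omZ p (TH : Subgroup H)).map H.subtype := by
      rw [← omZ_map H.subtype hinj, hmap]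
    have eW := inducedFunctor_map hW H.subtype TH.2 hinj
    have eW' := inducedFunctor_map hW' H.subtype TH.2 hinj
    rw [hmap] at eW eW'
    obtain ⟨b, hb, c, hc, hbc⟩ := ih _ (hcard ▸ card_subgroup_lt H hH) H (hX.subgroup H) rfl TH
      (by
        rw [← Subgroup.map_le_map_iff_of_injective H.subtype_injective, ← eZ, ← eW]
        exact hZW)
      (by
        rw [← Subgroup.comap_map_eq_self_of_injective H.subtype_injective
          (Cfsg.inducedFunctor W (TH : Subgroup H)), ← eW]
        exact hn.comap H.subtype) ⟨r, hr⟩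
    refine ⟨b, ?_, (c : X) * (r⁻¹ * c₀ * r), Subgroup.mul_mem _ ?_ (hCZ ?_), ?_⟩
    · rw [eW']
      exact Subgroup.le_normalizer_map H.subtype ⟨b, hb, rfl⟩
    · rw [eZ, Subgroup.mem_centralizer_iff]
      rintro _ ⟨z, hz, rfl⟩
      exact congrArg Subtype.val (Subgroup.mem_centralizer_iff.mp hc z hz)
    · have := (inferInstance : C.Normal).conj_mem c₀ hc₀ r⁻¹
      rwa [inv_inv] at this
    · have hr' : r = (b : X) * (c : X) := congrArg Subtype.val hbc
      rw [← mul_assoc, ← hr', he]
      group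

end Cfsg.Agent.CF
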