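import Cfsg.Agent.CF.Offender
import Cfsg.Agent.CF.Quot
import Cfsg.Agent.CF.CentreFactor
import Cfsg.Agent.EvenLocal.InvolvedS4
import Cfsg.Agent.Modules.Thompson
import Cfsg.Agent.PSolv.HallHigman
import Cfsg.Agent.PSolv.Basic
import Cfsg.Agent.Cores.Fitting

/-!
Thompson factorization in solvable `S₄`-free groups with Sylow 2-subgroups of class at most two.
-/

set_option autoImplicit false

open scoped commutatorElement IsMulCommutative

namespace Cfsg.Agent.CF

open Cfsg.Agent.Fusion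

variable {X : Type*} [Group X]

/-- An element of odd order fixing an elementary quotient and the kernel fixes everything. -/
theorem commute_of_fixed_quot [Finite X] {x q : X} (hodd : Odd (orderOf x))
    (hz : Commute x (x * q * x⁻¹ * q⁻¹)) (hz2 : ∃ j : ℕ, (x * q * x⁻¹ * q⁻¹) ^ 2 ^ j = 1) :
    Commute x q := by
  set z := x * q * x⁻¹ * q⁻¹ with hzdef
  have hi : ∀ i : ℕ, x ^ i * q * (x ^ i)⁻¹ = z ^ i * q := by
    intro i
    induction i with
    | zero => simp
    | succ i ih =>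
      calc x ^ (i + 1) * q * (x ^ (i + 1))⁻¹ = x * (x ^ i * q * (x ^ i)⁻¹) * x⁻¹ := by
            rw [pow_succ']; group
        _ = x * z ^ i * (q * x⁻¹) := by rw [ih]; group
        _ = z ^ i * (x * (q * x⁻¹)) := by rw [(hz.pow_right i).eq]; group
        _ = z ^ (i + 1) * q := by rw [pow_succ, hzdef]; group
  have h1 := hi (orderOf x)
  rw [pow_orderOf_eq_one] at h1
  simp only [one_mul, inv_one, mul_one, right_eq_mul] at h1
  obtain ⟨j, hj⟩ := hz2
  have h2 := pow_gcd_eq_one.mpr ⟨hj, h1⟩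
  rw [Nat.Coprime.pow_left j (Nat.coprime_two_left.mpr hodd), pow_one] at h2
  exact mul_inv_eq_iff_eq_mul.mp (mul_inv_eq_one.mp h2)

theorem class_two_commute {S : Subgroup X} (hcl : Subgroup.lowerCentralSeries S 2 = ⊥) :
    ∀ s ∈ S, ∀ q ∈ S, ⁅s, q⁆ ∈ S ⊓ Subgroup.centralizer (S : Set X) := by
  intro s hs q hq
  refine ⟨S.mul_mem (S.mul_mem (S.mul_mem hs hq) (S.inv_mem hs)) (S.inv_mem hq), ?_⟩
  show ⁅s, q⁆ ∈ Subgroup.centralizer (S : Set X)
  rw [Subgroup.mem_centralizer_iff_commutator_eq_one]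
  intro t ht
  have h1 : ⁅⁅s, q⁆, t⁆ ∈ Subgroup.lowerCentralSeries S 2 := by
    show ⁅⁅s, q⁆, t⁆ ∈ ⁅Subgroup.lowerCentralSeries S 1, S⁆
    refine Subgroup.commutator_mem_commutator ?_ ht
    show ⁅s, q⁆ ∈ ⁅Subgroup.lowerCentralSeries S 0, S⁆
    exact Subgroup.commutator_mem_commutator hs hq
  rw [hcl, Subgroup.mem_bot] at h1
  rw [← commutatorElement_inv, h1, inv_one]

section Action

variable (V : Subgroup X) [V.Normal] [IsMulCommutative V]

/-- The faithful action of `X / C(V)` on the normal abelian subgroup `V`. -/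
def actHom : (X ⧸ Subgroup.centralizer (V : Set X)) →* MulAut V :=
  QuotientGroup.lift _ (MulAut.conjNormal (H := V)) fun g hg => by
    rw [MonoidHom.mem_ker]
    ext v
    rw [MulAut.conjNormal_apply, MulAut.one_apply, ← Subgroup.mem_centralizer_iff.mp hg v v.2,
      mul_inv_cancel_right]

theorem actHom_mk (g : X) (v : V) :
    ((actHom V (QuotientGroup.mk g) v : V) : X) = g * v * g⁻¹ :=
  MulAut.conjNormal_apply g v

theorem actHom_injective : Function.Injective (actHom V) := by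
  rw [injective_iff_map_eq_one]
  intro y hy
  obtain ⟨g, rfl⟩ := QuotientGroup.mk_surjective y
  refine (QuotientGroup.eq_one_iff g).mpr (Subgroup.mem_centralizer_iff.mpr fun v hv => ?_)
  have h := congrArg (fun e : MulAut V => ((e ⟨v, hv⟩ : V) : X)) hy
  rw [actHom_mk, MulAut.one_apply] at h
  exact (mul_inv_eq_iff_eq_mul.mp h).symm

theorem not_involves_three (hV : IsPGroup 2 V) [Finite X]
    (hS4 : ¬ Cfsg.Involves (Equiv.Perm (Fin 4)) X) :
    ¬ Cfsg.Involves (Equiv.Perm (Fin 3)) (X ⧸ Subgroup.centralizer (V : Set X)) := by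
  intro h
  refine hS4 (EvenLocal.involves_perm_four_iff.mpr ⟨V, hV, ?_⟩)
  have hN : Subgroup.normalizer (V : Set X) = ⊤ := Subgroup.normalizer_eq_top V
  let ι : X →* Subgroup.normalizer (V : Set X) :=
    { toFun := fun g => ⟨g, by rw [hN]; trivial⟩
      map_one' := rfl
      map_mul' := fun _ _ => rfl }
  let σ : (X ⧸ Subgroup.centralizer (V : Set X)) →* ↥(Subgroup.normalizer (V : Set X)) ⧸
      (Subgroup.centralizer (V : Set X)).subgroupOf (Subgroup.normalizer (V : Set X)) :=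
    QuotientGroup.map _ _ ι (fun g hg => hg)
  have hσi : Function.Injective σ := by
    rw [injective_iff_map_eq_one]
    intro y hy
    obtain ⟨g, rfl⟩ := QuotientGroup.mk_surjective y
    change QuotientGroup.mk (ι g) = 1 at hy
    exact (QuotientGroup.eq_one_iff g).mpr ((QuotientGroup.eq_one_iff (ι g)).mp hy : _)
  obtain ⟨A, f, hf⟩ := EvenLocal.exists_surjective_of_involves h
  let eA := A.equivMapOfInjective σ hσi
  exact EvenLocal.involves_of_surjective (f.comp eA.symm.toMonoidHom) (hf.comp eA.symm.surjective)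

variable [Finite X]

omit [Finite X] in
/-- The competitor `(A ⊓ C(V)) V` of an elementary abelian `A`. -/
theorem elemAb_competitor (hV2 : ∀ v ∈ V, v ^ 2 = 1) {A : Subgroup X}
    (hA : Cfsg.IsElementaryAbelian 2 A) :
    Cfsg.IsElementaryAbelian 2 (A ⊓ Subgroup.centralizer (V : Set X) ⊔ V) := by
  set A₀ := A ⊓ Subgroup.centralizer (V : Set X)
  have hcom : ∀ u ∈ A₀, ∀ v ∈ V, u * v = v * u := fun u hu v hv =>
    (Subgroup.mem_centralizer_iff.mp hu.2 v hv).symm
  refine ⟨⟨⟨fun g h => Subtype.ext ?_⟩⟩, fun g hg => ?_⟩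
  · obtain ⟨u, hu, v, hv, eg⟩ := Subgroup.mem_sup_of_normal_right.mp g.2
    obtain ⟨u', hu', v', hv', eh⟩ := Subgroup.mem_sup_of_normal_right.mp h.2
    show (g : X) * h = h * g
    rw [← eg, ← eh]
    have e1 : v * v' = v' * v := congrArg Subtype.val (mul_comm (⟨v, hv⟩ : V) ⟨v', hv'⟩)
    calc u * v * (u' * v') = u * (v * u') * v' := by group
      _ = u * u' * (v * v') := by rw [← hcom u' hu' v hv]; group
      _ = u' * u * (v' * v) := by rw [Modules.elemAb_comm hA hu.1 hu'.1, e1]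
      _ = u' * (u * v') * v := by group
      _ = u' * v' * (u * v) := by rw [hcom u hu v' hv']; group
  · obtain ⟨u, hu, v, hv, rfl⟩ := Subgroup.mem_sup_of_normal_right.mp hg
    rw [(show Commute u v from hcom u hu v hv).mul_pow, hA.2 u hu.1, hV2 v hv, one_mul]

/-- A largest elementary abelian subgroup acts on `V` as an offender. -/
theorem card_le_of_max {A : Subgroup X} (hA : Cfsg.IsElementaryAbelian 2 A)
    (hmax : Nat.card (A ⊓ Subgroup.centralizer (V : Set X) ⊔ V : Subgroup X) ≤ Nat.card A) :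
    Nat.card V ≤ Nat.card (A.map (QuotientGroup.mk' (Subgroup.centralizer (V : Set X)))) *
      Nat.card (fixSub (actHom V)
        (A.map (QuotientGroup.mk' (Subgroup.centralizer (V : Set X))))) := by
  set C := Subgroup.centralizer (V : Set X) with hC
  set π := QuotientGroup.mk' C
  set A₀ := A ⊓ C with hA₀
  set r := V.relIndex A₀
  have h1 : Nat.card (A₀ ⊔ V : Subgroup X) = Nat.card V * r := by
    have h := Subgroup.relIndex_mul_relIndex ⊥ V (A₀ ⊔ V) bot_le le_sup_right
    rw [Subgroup.relIndex_bot_left, Subgroup.relIndex_bot_left, Subgroup.relIndex_sup_right] at h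
    exact h.symm
  have h2 : Nat.card A₀ = Nat.card (V ⊓ A₀ : Subgroup X) * r := by
    have h := Subgroup.relIndex_mul_relIndex ⊥ (V ⊓ A₀) A₀ bot_le inf_le_right
    rw [Subgroup.relIndex_bot_left, Subgroup.relIndex_bot_left, Subgroup.inf_relIndex_right] at h
    exact h.symm
  have h3 : Nat.card A = Nat.card A₀ * Nat.card (A.map π) := by
    have h := Subgroup.relIndex_mul_relIndex ⊥ A₀ A bot_le inf_le_left
    rw [Subgroup.relIndex_bot_left, Subgroup.relIndex_bot_left, hA₀, Subgroup.inf_relIndex_left] at h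
    rw [← h, ← Subgroup.relIndex_ker, QuotientGroup.ker_mk']
  have h4 : Nat.card (V ⊓ A₀ : Subgroup X) ≤ Nat.card (fixSub (actHom V) (A.map π)) := by
    refine Nat.card_le_card_of_injective (fun v => ⟨⟨(v : X), v.2.1⟩, ?_⟩) fun v w h => ?_
    · rintro _ ⟨a, ha, rfl⟩
      apply Subtype.ext
      change ((actHom V (QuotientGroup.mk a) ⟨(v : X), v.2.1⟩ : V) : X) = v
      rw [actHom_mk]
      show a * (v : X) * a⁻¹ = v
      rw [Modules.elemAb_comm hA ha v.2.2.1, mul_inv_cancel_right]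
    · exact Subtype.ext (congrArg (fun u => ((u.1 : V) : X)) h)
  have hr : 0 < r := Nat.pos_of_ne_zero Subgroup.index_ne_zero_of_finite
  rw [h1, h3, h2] at hmax
  refine le_trans ?_ (Nat.mul_le_mul_left _ h4)
  refine Nat.le_of_mul_le_mul_right (c := r) ?_ hr
  calc Nat.card V * r ≤ Nat.card (V ⊓ A₀ : Subgroup X) * r * Nat.card (A.map π) := hmax
    _ = Nat.card (A.map π) * Nat.card (V ⊓ A₀ : Subgroup X) * r := by ring

end Action

variable [Finite X]

/-- The odd core of `X / O_2(X)` is self-centralizing. -/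
theorem centralizer_oddCore_le [Group.IsSolvable X] :
    Subgroup.centralizer ((Cfsg.pPrimeCore 2 (X ⧸ Cfsg.pCore 2 X) :
        Subgroup (X ⧸ Cfsg.pCore 2 X)) : Set (X ⧸ Cfsg.pCore 2 X)) ≤
      Cfsg.pPrimeCore 2 (X ⧸ Cfsg.pCore 2 X) := by
  set Q := Cfsg.pCore 2 X
  have hQp : IsPGroup 2 Q := Cores.pCore_isPGroup
  have hO2 : Cfsg.pCore 2 (X ⧸ Q) = ⊥ := by
    have h1 : (Cfsg.pCore 2 (X ⧸ Q)).comap (QuotientGroup.mk' Q) ≤ Q :=
      Cores.le_pCore inferInstance (IsPGroup.comap_of_ker_isPGroup Cores.pCore_isPGroup _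
        (by rw [QuotientGroup.ker_mk']; exact hQp))
    rw [← Subgroup.map_comap_eq_self_of_surjective (QuotientGroup.mk'_surjective Q)
      (Cfsg.pCore 2 (X ⧸ Q)), Subgroup.map_eq_bot_iff, QuotientGroup.ker_mk']
    exact h1
  haveI : Group.IsSolvable (X ⧸ Q) :=
    Group.isSolvable_of_surjective (QuotientGroup.mk'_surjective Q)
  have hFit : Cfsg.fittingSubgroup (X ⧸ Q) ≤ Cfsg.pPrimeCore 2 (X ⧸ Q) := by
    rw [Cores.fittingSubgroup_eq_iSup_pCore]
    refine iSup_le fun q => ?_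
    haveI : Fact (q : ℕ).Prime := ⟨q.2⟩
    by_cases hq : (q : ℕ) = 2
    · rw [hq, hO2]; exact bot_le
    · obtain ⟨j, hj⟩ := IsPGroup.iff_card.mp (Cores.pCore_isPGroup (p := (q : ℕ)) (G := X ⧸ Q))
      refine Cores.le_pPrimeCore inferInstance ?_
      rw [hj]
      exact Nat.Coprime.pow_left j ((Nat.coprime_primes q.2 Nat.prime_two).mpr hq)
  exact (Subgroup.centralizer_le hFit).trans (Cores.centralizer_fittingSubgroup_le.trans hFit)

theorem omZ_normal (Q : Subgroup X) [Q.Normal] : (omZ 2 Q).Normal := by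
  rw [← Subgroup.normalizer_eq_top_iff, eq_top_iff]
  intro g _
  show g ∈ Nz (omZ 2 Q)
  rw [mem_Nz]
  have h1 := omZ_map (p := 2) (MulAut.conj g).toMonoidHom (P := Q)
    fun z _ hz => (MulAut.conj g).injective (hz.trans (map_one _).symm)
  change omZ 2 (cj g Q) = cj g (omZ 2 Q) at h1
  rw [cj_eq_of_normal g Q] at h1
  exact h1.symm

/-- In class two, the normal closure of `S` meets `C(Ω₁ Z(Q))` in a subgroup of `Q = O_2(X)`. -/
theorem closure_inf_centralizer_le (S : Sylow 2 X)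
    (hCQ : Subgroup.centralizer (Cfsg.pCore 2 X : Set X) ≤ Cfsg.pCore 2 X)
    (hcl : Subgroup.lowerCentralSeries (S : Subgroup X) 2 = ⊥) :
    Subgroup.normalClosure ((S : Subgroup X) : Set X) ⊓
      Subgroup.centralizer (omZ 2 (Cfsg.pCore 2 X) : Set X) ≤ Cfsg.pCore 2 X := by
  set Q := Cfsg.pCore 2 X
  have hQS : Q ≤ (S : Subgroup X) := Cores.pCore_le_sylow S
  have hQp : IsPGroup 2 Q := Cores.pCore_isPGroup
  set ZQ := Q ⊓ Subgroup.centralizer (Q : Set X) with hZQ
  haveI : (Subgroup.centralizer (Q : Set X)).Normal := by infer_instance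
  haveI : ZQ.Normal := by rw [hZQ]; infer_instance
  haveI : (omZ 2 Q).Normal := omZ_normal Q
  haveI : (Subgroup.centralizer (omZ 2 Q : Set X)).Normal := by infer_instance
  set L := Subgroup.normalClosure ((S : Subgroup X) : Set X) with hL
  haveI : L.Normal := Subgroup.normalClosure_normal
  have hLQ : ∀ l ∈ L, ∀ q ∈ Q, l * q * l⁻¹ * q⁻¹ ∈ ZQ := by
    let π := QuotientGroup.mk' ZQ
    haveI : (Q.map π).Normal := (inferInstance : Q.Normal).map π (QuotientGroup.mk'_surjective _)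
    haveI : (Subgroup.centralizer (Q.map π : Set (X ⧸ ZQ))).Normal := by infer_instance
    have hK : L ≤ (Subgroup.centralizer (Q.map π : Set (X ⧸ ZQ))).comap π := by
      refine Subgroup.normalClosure_le_normal fun s hs => ?_
      rw [SetLike.mem_coe, Subgroup.mem_comap, Subgroup.mem_centralizer_iff]
      rintro _ ⟨q, hq, rfl⟩
      rw [← map_mul, ← map_mul]
      refine QuotientGroup.eq.mpr ?_
      have h1 := class_two_commute hcl s hs q⁻¹ (inv_mem (hQS hq))
      have hmem : ⁅s, q⁻¹⁆ ∈ Q := by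
        rw [commutatorElement_def, inv_inv]
        exact Q.mul_mem ((inferInstance : Q.Normal).conj_mem _ (Q.inv_mem hq) s) hq
      have h2 : ⁅s, q⁻¹⁆ ∈ ZQ := ⟨hmem, Subgroup.centralizer_le hQS h1.2⟩
      have h5 := (inferInstance : ZQ.Normal).conj_mem _ (ZQ.inv_mem h2) s⁻¹
      convert h5 using 1
      rw [commutatorElement_def]; group
    intro l hl q hq
    have h1 := Subgroup.mem_centralizer_iff.mp (hK hl) (π q) ⟨q, hq, rfl⟩
    rw [← QuotientGroup.eq_one_iff]
    show π (l * q * l⁻¹ * q⁻¹) = 1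
    rw [map_mul, map_mul, map_mul, map_inv, map_inv, ← h1]
    group
  refine Cores.le_pCore inferInstance ?_
  intro ⟨x, hx⟩
  suffices h : ∀ y : X, y ∈ L ⊓ Subgroup.centralizer (omZ 2 Q : Set X) → Odd (orderOf y) → y = 1 by
    obtain ⟨k, m, hm, hk⟩ := Nat.exists_eq_two_pow_mul_odd (orderOf_pos x).ne'
    refine ⟨k, Subtype.ext (h _ (Subgroup.pow_mem _ hx _) ?_)⟩
    show Odd (orderOf (x ^ 2 ^ k))
    rw [orderOf_pow' _ (pow_ne_zero _ two_ne_zero), hk, Nat.gcd_mul_right_left,
      Nat.mul_div_cancel_left _ (pow_pos two_pos k)]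
    exact hm
  intro y hy hodd
  have hfix : ∀ j : ℕ, ∀ z ∈ ZQ, z ^ 2 ^ j = 1 → Commute y z := by
    intro j
    induction j with
    | zero => intro z _ hz; rw [pow_zero, pow_one] at hz; rw [hz]; exact Commute.one_right y
    | succ j ih =>
      intro z hzq hz
      have h2 : Commute y (z * z) := ih (z * z) (ZQ.mul_mem hzq hzq) (by
        rw [← sq, ← pow_mul, ← pow_succ', hz])
      set w := y * z * y⁻¹ * z⁻¹ with hw
      have hwZ : w ∈ ZQ := ZQ.mul_mem ((inferInstance : ZQ.Normal).conj_mem z hzq y)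
        (ZQ.inv_mem hzq)
      have hw2 : w ^ 2 = 1 := by
        have hcomm : Commute (y * z * y⁻¹) z⁻¹ :=
          (show Commute (y * z * y⁻¹) z from Subgroup.mem_centralizer_iff.mp hzq.2 _
            ((inferInstance : Q.Normal).conj_mem z hzq.1 y)).inv_right
        rw [hw, hcomm.mul_pow, conj_pow, sq z, h2.eq, mul_inv_cancel_right, sq, ← mul_inv_rev,
          mul_inv_cancel]
      refine commute_of_fixed_quot hodd ?_ ⟨1, by rw [pow_one]; exact hw2⟩
      exact (Subgroup.mem_centralizer_iff.mp hy.2 w (Subgroup.subset_closure ⟨hwZ, hw2⟩)).symm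
  have hyQ : y ∈ Subgroup.centralizer (Q : Set X) := by
    rw [Subgroup.mem_centralizer_iff]
    intro q hq
    have hz := hLQ y hy.1 q hq
    obtain ⟨j, hj⟩ := hQp ⟨_, hz.1⟩
    have hj' : (y * q * y⁻¹ * q⁻¹) ^ 2 ^ j = 1 := congrArg Subtype.val hj
    exact (commute_of_fixed_quot hodd (hfix j _ hz hj') ⟨j, hj'⟩).eq.symm
  obtain ⟨j, hj⟩ := hQp ⟨y, hCQ hyQ⟩
  have hj' : y ^ 2 ^ j = 1 := congrArg Subtype.val hj
  have h2 := pow_gcd_eq_one.mpr ⟨hj', pow_orderOf_eq_one y⟩
  rwa [Nat.Coprime.pow_left j (Nat.coprime_two_left.mpr hodd), pow_one] at h2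

/-- The case without normal subgroup of odd order. -/
theorem thompson_normal_of_classTwo [Group.IsSolvable X] (S : Sylow 2 X)
    (hS4 : ¬ Cfsg.Involves (Equiv.Perm (Fin 4)) X) (hO : Cfsg.pPrimeCore 2 X = ⊥)
    (hcl : Subgroup.lowerCentralSeries (S : Subgroup X) 2 = ⊥) :
    Nz (Cfsg.thompsonSubgroupOf 2 (S : Subgroup X)) = ⊤ := by
  set Q := Cfsg.pCore 2 X with hQ
  have hQS : Q ≤ (S : Subgroup X) := Cores.pCore_le_sylow S
  have hQp : IsPGroup 2 Q := Cores.pCore_isPGroup
  have hCQ : Subgroup.centralizer (Q : Set X) ≤ Q :=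
    PSolv.centralizer_pCore_le (PSolv.isPSolvable_of_isSolvable inferInstance) hO
  set V := omZ 2 Q with hV
  have hVQ : V ≤ Q := omZ_le 2 Q
  haveI : V.Normal := omZ_normal Q
  haveI : IsMulCommutative V := ⟨⟨fun u v => Subtype.ext
    (Subgroup.mem_centralizer_iff.mp ((omZ_le_inf 2 Q) v.2).2 u (omZ_le 2 Q u.2))⟩⟩
  set C := Subgroup.centralizer (V : Set X) with hC
  haveI : C.Normal := by rw [hC]; infer_instance
  have hQC : Q ≤ C := Subgroup.le_centralizer_iff.mp ((omZ_le_inf 2 Q).trans inf_le_right)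
  set L := Subgroup.normalClosure ((S : Subgroup X) : Set X) with hL
  haveI : L.Normal := Subgroup.normalClosure_normal
  have hSL : (S : Subgroup X) ≤ L := Subgroup.le_normalClosure
  have hLC : L ⊓ C ≤ Q := closure_inf_centralizer_le S hCQ hcl
  have hM : ∀ v : V, v * v = 1 := fun v => Subtype.ext (by
    show (v : X) * v = 1
    rw [← sq]; exact pow_eq_one_of_mem_omZ _ v.2)
  set Fb := Cfsg.pPrimeCore 2 (X ⧸ Q) with hFb
  have hFbodd : Odd (Nat.card Fb) := Nat.coprime_two_right.mp Cores.pPrimeCore_coprime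
  let τ : (X ⧸ Q) →* X ⧸ C := QuotientGroup.map Q C (MonoidHom.id X) hQC
  let πC : X →* X ⧸ C := QuotientGroup.mk' C
  haveI : (Fb.map τ).Normal :=
    (inferInstance : Fb.Normal).map τ fun y => by
      obtain ⟨g, rfl⟩ := QuotientGroup.mk_surjective y
      exact ⟨QuotientGroup.mk g, rfl⟩
  have key : ∀ A ∈ Modules.maxElemAbIn 2 (S : Subgroup X), A ≤ Q := by
    rintro A ⟨hAS, hAe, hAmax⟩
    suffices hAC : A ≤ C from fun a ha => hLC ⟨hSL (hAS ha), hAC ha⟩
    by_contra hAC
    have hne : A.map πC ≠ ⊥ := by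
      rw [Ne, Subgroup.map_eq_bot_iff, QuotientGroup.ker_mk']
      exact hAC
    refine absurd (card_mul_fix_lt hM (actHom V) (actHom_injective V)
      (not_involves_three V (hQp.to_le hVQ) hS4) (Fb.map τ)
      (Odd.of_dvd_nat hFbodd (Subgroup.card_map_dvd (H := Fb) τ)) (A.map πC) ?_ ?_ ?_ ?_ hne)
      (not_lt.mpr (card_le_of_max V hAe (hAmax _ (sup_le (inf_le_left.trans hAS) (hVQ.trans hQS))
        (elemAb_competitor V (fun v hv => pow_eq_one_of_mem_omZ v hv) hAe))))
    · rintro _ ⟨u, hu, rfl⟩ _ ⟨v, hv, rfl⟩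
      rw [← map_mul, ← map_mul, Modules.elemAb_comm hAe hu hv]
    · rintro _ ⟨u, hu, rfl⟩
      rw [← map_mul, ← sq, hAe.2 u hu, map_one]
    · rw [Subgroup.normalizer_eq_top]; exact le_top
    · rintro _ ⟨u, hu, rfl⟩ hcomm
      have h1 : QuotientGroup.mk' Q u ∈ Subgroup.centralizer (Fb : Set (X ⧸ Q)) := by
        rw [Subgroup.mem_centralizer_iff]
        intro y hy
        obtain ⟨f, rfl⟩ := QuotientGroup.mk'_surjective Q y
        have h2 := hcomm _ ⟨_, hy, rfl⟩
        change πC u * πC f = πC f * πC u at h2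
        rw [← map_mul, ← map_mul] at h2
        have h3 : (u * f)⁻¹ * (f * u) ∈ C := QuotientGroup.eq.mp h2
        have h4 : (u * f)⁻¹ * (f * u) ∈ L := by
          have h5 := L.mul_mem ((inferInstance : L.Normal).conj_mem _
            (L.inv_mem (hSL (hAS hu))) f⁻¹) (hSL (hAS hu))
          simpa [mul_assoc] using h5
        rw [← map_mul, ← map_mul]
        exact (QuotientGroup.eq.mpr (hLC ⟨h4, h3⟩)).symm
      have h7 : orderOf (QuotientGroup.mk' Q u) ∣ 2 :=
        orderOf_dvd_of_pow_eq_one (by rw [← map_pow, hAe.2 u hu, map_one])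
      have h8 : orderOf (QuotientGroup.mk' Q u) ∣ Nat.card Fb :=
        Subgroup.orderOf_dvd_natCard _ (centralizer_oddCore_le h1)
      have h6 : QuotientGroup.mk' Q u = 1 := by
        rw [← orderOf_eq_one_iff]
        exact Nat.eq_one_of_dvd_coprimes (Nat.coprime_two_left.mpr hFbodd) h7 h8
      exact (QuotientGroup.eq_one_iff u).mpr (hQC ((QuotientGroup.eq_one_iff u).mp h6))
  have hJQ : Cfsg.thompsonSubgroupOf 2 (S : Subgroup X) ≤ Q := by
    rw [Modules.thompsonSubgroupOf_eq_sSup]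
    exact sSup_le key
  rw [← Modules.thompsonSubgroupOf_eq_of_le hQS hJQ, eq_top_iff]
  intro g _
  rw [mem_Nz]
  show (Cfsg.thompsonSubgroupOf 2 Q).map (MulAut.conj g).toMonoidHom = _
  rw [Modules.map_thompsonSubgroupOf (MulAut.conj g).injective]
  exact congrArg _ (cj_eq_of_normal g Q)

end Cfsg.Agent.CF
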