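import Cfsg.Agent.EvenLocal.Involved
import Cfsg.Agent.Coprime.Generation

/-!
No failure of factorization for an elementary abelian 2-group acting faithfully on a group of odd order
inside a group without section `S₃`.
-/

set_option autoImplicit false

namespace Cfsg.Agent.CF

variable {X : Type*} [Group X] {M : Type*} [CommGroup M]

/-- The points of `M` fixed by the subgroup `A` acting through `φ`. -/
def fixSub (φ : X →* MulAut M) (A : Subgroup X) : Subgroup M where
  carrier := {m | ∀ a ∈ A, φ a m = m}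
  one_mem' _ _ := map_one _
  mul_mem' h h' a ha := by rw [map_mul, h a ha, h' a ha]
  inv_mem' h a ha := by rw [map_inv, h a ha]

theorem mem_fixSub {φ : X →* MulAut M} {A : Subgroup X} {m : M} :
    m ∈ fixSub φ A ↔ ∀ a ∈ A, φ a m = m := Iff.rfl

theorem apply_mul (φ : X →* MulAut M) (g h : X) (m : M) : φ (g * h) m = φ g (φ h m) := by
  rw [map_mul]; rfl

theorem fixed_pow (φ : X →* MulAut M) {x : X} {m : M} (h : φ x m = m) (i : ℕ) :
    φ (x ^ i) m = m := by
  induction i with
  | zero => rw [pow_zero, map_one]; rfl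
  | succ i ih => rw [pow_succ, apply_mul, h, ih]

theorem fixed_of_sq (φ : X →* MulAut M) {x : X} (hx : Odd (orderOf x)) {m : M}
    (h : φ (x * x) m = m) : φ x m = m := by
  obtain ⟨k, hk⟩ := hx
  have h1 : x = (x * x) ^ (k + 1) := by
    rw [← sq, ← pow_mul, show 2 * (k + 1) = orderOf x + 1 by omega, pow_succ, pow_orderOf_eq_one,
      one_mul]
  rw [h1]
  exact fixed_pow φ h _

/-- A fixed value of `m ↦ x m / m` is trivial. -/
theorem eq_one_of_fixed_diff (hM : ∀ m : M, m * m = 1) (φ : X →* MulAut M) {x : X}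
    (hx : Odd (orderOf x)) (m : M) (h : φ x (φ x m * m⁻¹) = φ x m * m⁻¹) : φ x m * m⁻¹ = 1 := by
  set n := φ x m * m⁻¹ with hn
  have hi : ∀ i : ℕ, φ (x ^ i) m = n ^ i * m := by
    intro i
    induction i with
    | zero => rw [pow_zero, map_one, pow_zero, one_mul]; rfl
    | succ i ih =>
      rw [pow_succ', apply_mul, ih, map_mul, map_pow, h, pow_succ, mul_assoc, hn,
        inv_mul_cancel_right]
  have h1 := hi (orderOf x)
  rw [pow_orderOf_eq_one, map_one] at h1
  change m = _ at h1
  obtain ⟨k, hk⟩ := hx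
  rw [hk, pow_succ, pow_mul, sq, hM, one_pow, one_mul] at h1
  exact mul_eq_right.mp h1.symm

theorem fixed_of_diff_fixed (hM : ∀ m : M, m * m = 1) (φ : X →* MulAut M) {x : X}
    (hx : Odd (orderOf x)) {m : M} (h : φ x (φ x m * m⁻¹) = φ x m * m⁻¹) : φ x m = m :=
  mul_inv_eq_one.mp (eq_one_of_fixed_diff hM φ hx m h)

/-- Commuting involutions have a common fixed point on every nontrivial invariant subgroup. -/
theorem exists_fixed [Finite X] (hM : ∀ m : M, m * m = 1) (φ : X →* MulAut M) (B : Subgroup X)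
    (hBc : ∀ a ∈ B, ∀ b ∈ B, a * b = b * a) (hB2 : ∀ b ∈ B, b * b = 1) (N : Subgroup M)
    (hN : ∀ b ∈ B, ∀ m ∈ N, φ b m ∈ N) (hne : N ≠ ⊥) :
    ∃ n ∈ N, n ≠ 1 ∧ ∀ b ∈ B, φ b n = n := by
  classical
  haveI := Fintype.ofFinite X
  suffices ∀ s : Finset X, (∀ b ∈ s, b ∈ B) → ∃ n ∈ N, n ≠ 1 ∧ ∀ b ∈ s, φ b n = n by
    obtain ⟨n, h1, h2, h3⟩ := this (Finset.univ.filter (· ∈ B)) (by simp)
    exact ⟨n, h1, h2, fun b hb => h3 b (by simpa using hb)⟩
  intro s
  induction s using Finset.induction with
  | empty =>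
    intro _
    obtain ⟨n, hn, hn1⟩ := (N.ne_bot_iff_exists_ne_one).mp hne |> fun ⟨n, hn⟩ =>
      (⟨(n : M), n.2, fun h => hn (Subtype.ext h)⟩ : ∃ n ∈ N, n ≠ (1 : M))
    exact ⟨n, hn, hn1, by simp⟩
  | insert b s _ ih =>
    intro hs
    have hb : b ∈ B := hs b (Finset.mem_insert_self b s)
    obtain ⟨n, hn, hn1, hfix⟩ := ih fun c hc => hs c (Finset.mem_insert_of_mem hc)
    by_cases he : φ b n = n
    · exact ⟨n, hn, hn1, fun c hc => (Finset.mem_insert.mp hc).elim (fun h => h ▸ he) (hfix c)⟩
    refine ⟨φ b n * n⁻¹, N.mul_mem (hN b hb n hn) (N.inv_mem hn),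
      fun h => he (mul_inv_eq_one.mp h), fun c hc => ?_⟩
    rcases Finset.mem_insert.mp hc with rfl | hc'
    · rw [map_mul, map_inv, ← apply_mul, hB2 _ hb, map_one]
      change n * (φ c n)⁻¹ = φ c n * n⁻¹
      rw [inv_eq_of_mul_eq_one_right (hM _), inv_eq_of_mul_eq_one_right (hM n), mul_comm]
    · rw [map_mul, map_inv, ← apply_mul, hBc c (hs c hc) b hb, apply_mul, hfix c hc']

variable [Finite X] [Finite M]

/-- An inverted element centralizing `B` forces a drop of more than two on the fixed points. -/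
theorem not_card_fix_le (hM : ∀ m : M, m * m = 1) (φ : X →* MulAut M)
    (hinj : Function.Injective φ) (hS3 : ¬ Cfsg.Involves (Equiv.Perm (Fin 3)) X)
    (B : Subgroup X) (hBc : ∀ a ∈ B, ∀ b ∈ B, a * b = b * a) (hB2 : ∀ b ∈ B, b * b = 1)
    {a x : X} (ha2 : a * a = 1) (hab : ∀ b ∈ B, a * b = b * a) (hxb : ∀ b ∈ B, x * b = b * x)
    (hinv : a * x * a⁻¹ = x⁻¹) (hx : Odd (orderOf x)) (hx1 : x ≠ 1) :
    ¬ Nat.card (fixSub φ B) ≤ 2 * Nat.card (fixSub φ B ⊓ fixSub φ (Subgroup.zpowers a) : Subgroup M) := by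
  classical
  intro hle
  set Mb := fixSub φ B with hMb
  set Ma := Mb ⊓ fixSub φ (Subgroup.zpowers a) with hMa
  have hBinv : ∀ g : X, (∀ b ∈ B, g * b = b * g) → ∀ m ∈ Mb, φ g m ∈ Mb := by
    intro g hg m hm b hb
    rw [← apply_mul, ← hg b hb, apply_mul, hm b hb]
  let δ : M →* M :=
    { toFun := fun m => φ x m * m⁻¹
      map_one' := by simp
      map_mul' := fun u v => by rw [map_mul, mul_inv, mul_mul_mul_comm] }
  -- `x` moves the fixed points of `B`
  have hmove : ¬ Mb ≤ δ.ker := by
    intro h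
    have hN : δ.range ≠ ⊥ := by
      intro he
      refine hx1 (hinj (MulEquiv.ext fun m => ?_))
      rw [map_one]
      exact mul_inv_eq_one.mp ((Subgroup.mem_bot).mp (he ▸ (⟨m, rfl⟩ : δ m ∈ δ.range)))
    obtain ⟨n, ⟨m, rfl⟩, hn1, hfix⟩ := exists_fixed hM φ B hBc hB2 δ.range (by
      rintro b hb _ ⟨m, rfl⟩
      refine ⟨φ b m, ?_⟩
      show φ x (φ b m) * (φ b m)⁻¹ = φ b (φ x m * m⁻¹)
      rw [map_mul, map_inv, ← apply_mul, hxb b hb, apply_mul]) hN
    exact hn1 (eq_one_of_fixed_diff hM φ hx m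
      (mul_inv_eq_one.mp (MonoidHom.mem_ker.mp (h hfix))))
  set N := Mb.map δ with hN
  have hNne : N ≠ ⊥ := fun h => hmove ((Subgroup.map_eq_bot_iff _).mp h)
  -- `N` has at most four elements
  have hN4 : Nat.card N ≤ 4 := by
    let xa := Ma.map (φ x).toMonoidHom
    have h1 : Ma ⊓ xa ≤ δ.ker := by
      rintro _ ⟨hma, m, hm, rfl⟩
      refine mul_inv_eq_one.mpr (fixed_of_sq φ hx ?_)
      have e1 : φ a (φ x m) = φ x m := hma.2 a (Subgroup.mem_zpowers a)
      have e2 : φ a m = m := (Subgroup.mem_inf.mp hm).2 a (Subgroup.mem_zpowers a)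
      have e3 : a * x = x⁻¹ * a := by
        rw [← hinv, inv_mul_cancel_right]
      rw [← apply_mul, e3, apply_mul, e2] at e1
      show φ (x * x) (φ x m) = φ x m
      have e4 : φ (x * x) m = m := by
        rw [apply_mul, ← e1, ← apply_mul, mul_inv_cancel, map_one]; rfl
      rw [← apply_mul, mul_assoc, apply_mul, ← apply_mul]
      show φ (x * (x * x)) m = φ x m
      rw [apply_mul, e4]
    have hxa : xa ≤ Mb := by
      rintro _ ⟨m, hm, rfl⟩
      exact hBinv x hxb m hm.1
    have hrel : Ma.relIndex Mb ≤ 2 := by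
      have h2 := Subgroup.relIndex_mul_relIndex ⊥ Ma Mb bot_le inf_le_left
      rw [Subgroup.relIndex_bot_left, Subgroup.relIndex_bot_left] at h2
      nlinarith [Nat.card_pos (α := Ma)]
    have hrel' : xa.relIndex Mb ≤ 2 := by
      have h2 := Subgroup.relIndex_mul_relIndex ⊥ xa Mb bot_le hxa
      rw [Subgroup.relIndex_bot_left, Subgroup.relIndex_bot_left] at h2
      have h3 : Nat.card xa = Nat.card Ma :=
        Subgroup.card_map_of_injective (φ x).injective
      nlinarith [Nat.card_pos (α := Ma)]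
    have h5 : (δ.ker).relIndex Mb ≤ 4 := by
      refine le_trans ?_ ((Subgroup.relIndex_inf_le (H := Ma) (K := xa) (L := Mb)).trans
        (Nat.mul_le_mul hrel hrel'))
      exact Subgroup.relIndex_le_of_le_left h1 Subgroup.index_ne_zero_of_finite
    calc Nat.card N = δ.ker.relIndex Mb := by
          rw [hN, ← Subgroup.relIndex_ker]
      _ ≤ 4 := h5
  obtain ⟨n, hn, hn1, -⟩ := exists_fixed hM φ B hBc hB2 N (by
    rintro b hb _ ⟨m, hm, rfl⟩
    refine ⟨φ b m, hBinv b (fun c hc => hBc b hb c hc) m hm, ?_⟩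
    show φ x (φ b m) * (φ b m)⁻¹ = φ b (φ x m * m⁻¹)
    rw [map_mul, map_inv, ← apply_mul, hxb b hb, apply_mul]) hNne
  have hxN : ∀ v ∈ N, φ x v ∈ N := by
    rintro _ ⟨m, hm, rfl⟩
    refine ⟨φ x m, hBinv x hxb m hm, ?_⟩
    show φ x (φ x m) * (φ x m)⁻¹ = φ x (φ x m * m⁻¹)
    rw [map_mul, map_inv]
  have haN : ∀ v ∈ N, φ a v ∈ N := by
    rintro _ ⟨m, hm, rfl⟩
    refine ⟨φ x⁻¹ (φ a m), hBinv x⁻¹ (fun b hb => ((show Commute x b from hxb b hb).inv_left).eq) _
      (hBinv a hab m hm), ?_⟩
    show φ x (φ x⁻¹ (φ a m)) * (φ x⁻¹ (φ a m))⁻¹ = φ a (φ x m * m⁻¹)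
    have e3 : a * x = x⁻¹ * a := by rw [← hinv, inv_mul_cancel_right]
    have e5 : φ x (φ x⁻¹ (φ a m)) = φ a m := by
      rw [← apply_mul φ x, mul_inv_cancel, map_one]; rfl
    have e6 : φ a (φ x m) = φ x⁻¹ (φ a m) := by rw [← apply_mul, e3, apply_mul]
    rw [map_mul (φ a), map_inv (φ a), e5, e6]
    change φ a m * (φ x⁻¹ (φ a m))⁻¹ = φ x⁻¹ (φ a m) * (φ a m)⁻¹
    rw [inv_eq_of_mul_eq_one_right (hM _), inv_eq_of_mul_eq_one_right (hM (φ a m)), mul_comm]
  have hfx : ∀ v ∈ N, φ x v = v → v = 1 := by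
    rintro _ ⟨m, -, rfl⟩ h
    exact eq_one_of_fixed_diff hM φ hx m h
  -- the three nontrivial elements of `N`
  set T := {v : M // v ∈ N ∧ v ≠ 1}
  have hT : Nat.card T ≤ 3 := by
    haveI : Fintype N := Fintype.ofFinite _
    have h1 : Nat.card T + 1 = Nat.card N := by
      let e : Option T ≃ N :=
        { toFun := fun o => o.elim 1 fun v => ⟨v.1, v.2.1⟩
          invFun := fun v => if h : (v : M) = 1 then none else some ⟨v, v.2, h⟩
          left_inv := fun o => by
            cases o with
            | none => simp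
            | some v => simp [v.2.2]
          right_inv := fun v => by
            by_cases h : (v : M) = 1
            · simp [h]; exact Subtype.ext h.symm
            · simp [h] }
      rw [← Nat.card_congr e, Finite.card_option]
    omega
  let St : Subgroup X :=
    { carrier := {g | ∀ v, φ g v ∈ N ↔ v ∈ N}
      one_mem' := fun v => by rw [map_one]; rfl
      mul_mem' := fun {g h} hg hh v => by rw [apply_mul, hg, hh]
      inv_mem' := fun {g} hg v => by
        rw [← hg (φ g⁻¹ v), ← apply_mul, mul_inv_cancel, map_one]; rfl }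
  letI : MulAction St T :=
    { smul := fun g v => ⟨φ (g : X) v.1, (g.2 v.1).mpr v.2.1, fun h => v.2.2
        ((φ (g : X)).injective (h.trans (map_one _).symm))⟩
      one_smul := fun v => Subtype.ext (by show φ (1 : X) v.1 = v.1; rw [map_one]; rfl)
      mul_smul := fun g h v => Subtype.ext (apply_mul φ (g : X) (h : X) v.1) }
  have mem_St : ∀ g : X, (∀ v ∈ N, φ g v ∈ N) → g ∈ St := by
    intro g hg v
    refine ⟨fun h => ?_, hg v⟩
    have hm : N.map (φ g).toMonoidHom = N := by
      refine Subgroup.eq_of_le_of_card_ge ?_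
        (le_of_eq (Subgroup.card_map_of_injective (K := N) (φ g).injective).symm)
      rintro _ ⟨w, hw, rfl⟩
      exact hg w hw
    obtain ⟨w, hw, he⟩ : φ g v ∈ N.map (φ g).toMonoidHom := hm.symm ▸ h
    exact (φ g).injective he ▸ hw
  set xs : St := ⟨x, mem_St x hxN⟩
  set as : St := ⟨a, mem_St a haN⟩
  let f := MulAction.toPermHom St T
  set t : T := ⟨n, hn, hn1⟩
  have hfx1 : xs • t ≠ t := fun h => hn1 (hfx n hn (congrArg Subtype.val h))
  have hfx2 : xs • xs • t ≠ t := fun h => hn1 (hfx n hn (fixed_of_sq φ hx (by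
    rw [apply_mul]; exact congrArg Subtype.val h)))
  have hall : ∀ v : T, v = t ∨ v = xs • t ∨ v = xs • xs • t := by
    intro v
    by_contra hv
    push_neg at hv
    obtain ⟨h1, h2, h3⟩ := hv
    haveI : Fintype T := Fintype.ofFinite T
    have hc : ({v, t, xs • t, xs • xs • t} : Finset T).card = 4 := by
      rw [Finset.card_insert_of_notMem (by simp [h1, h2, h3]),
        Finset.card_insert_of_notMem (by simp [hfx1.symm, hfx2.symm]),
        Finset.card_insert_of_notMem (by
          simp only [Finset.mem_singleton]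
          exact fun h => hfx1 (MulAction.injective xs h).symm),
        Finset.card_singleton]
    have := Finset.card_le_univ ({v, t, xs • t, xs • xs • t} : Finset T)
    rw [← Nat.card_eq_fintype_card, hc] at this
    omega
  have hx3 : xs • xs • xs • t = t := by
    rcases hall (xs • xs • xs • t) with h | h | h
    · exact h
    · exact absurd (MulAction.injective xs h) hfx2
    · exact absurd (MulAction.injective xs (MulAction.injective xs h)) hfx1
  have hf3 : f xs ^ 3 = 1 := by
    ext v
    show ((f xs ^ 3) v).1 = v.1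
    refine congrArg Subtype.val ?_
    show xs • xs • xs • v = v
    rcases hall v with rfl | rfl | rfl
    · exact hx3
    · rw [hx3]
    · rw [hx3]
  have hf1 : f xs ≠ 1 := fun h => hfx1 (Equiv.Perm.congr_fun h t)
  have ha1 : f as ≠ 1 := by
    intro h
    have hva : ∀ v : T, as • v = v := fun v => Equiv.Perm.congr_fun h v
    have h1 : φ (x * x) n = n := by
      have e3 : a * x = x⁻¹ * a := by rw [← hinv, inv_mul_cancel_right]
      have e1 : φ a (φ x n) = φ x n := congrArg Subtype.val (hva (xs • t))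
      have e2 : φ a n = n := congrArg Subtype.val (hva t)
      rw [← apply_mul, e3, apply_mul, e2] at e1
      rw [apply_mul, ← e1, ← apply_mul, mul_inv_cancel, map_one]; rfl
    exact hn1 (hfx n hn (fixed_of_sq φ hx h1))
  haveI : Fintype T := Fintype.ofFinite T
  have hT3 : Fintype.card T = 3 := by
    refine le_antisymm (Nat.card_eq_fintype_card (α := T) ▸ hT) ?_
    have : ({t, xs • t, xs • xs • t} : Finset T).card = 3 := by
      rw [Finset.card_insert_of_notMem (by simp [hfx1.symm, hfx2.symm]),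
        Finset.card_insert_of_notMem (by
          simp only [Finset.mem_singleton]
          exact fun h => hfx1 (MulAction.injective xs h).symm),
        Finset.card_singleton]
    exact this ▸ Finset.card_le_univ _
  let F : St →* Equiv.Perm (Fin 3) :=
    (Fintype.equivFinOfCardEq hT3).permCongrHom.toMonoidHom.comp f
  refine hS3 (EvenLocal.involves_of_surjective F ?_)
  rw [← MonoidHom.range_eq_top]
  refine Subgroup.eq_top_of_card_eq _ (le_antisymm (Subgroup.card_le_card_group _) ?_)
  have h6 : Nat.card (Equiv.Perm (Fin 3)) = 6 := by simp [Nat.card_eq_fintype_card, Fintype.card_perm]; rfl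
  rw [h6]
  refine Nat.le_of_dvd Nat.card_pos (Nat.Coprime.mul_dvd_of_dvd_of_dvd (m := 2) (n := 3)
    (by norm_num) ?_ ?_)
  · have h2 : orderOf (F as) = 2 := by
      refine orderOf_eq_prime ?_ fun h => ha1 ((Fintype.equivFinOfCardEq hT3).permCongrHom.injective
        (h.trans (map_one _).symm))
      rw [sq, ← map_mul]
      have : as * as = 1 := Subtype.ext ha2
      rw [this, map_one]
    exact h2 ▸ Subgroup.orderOf_dvd_natCard _ (⟨as, rfl⟩ : F as ∈ F.range)
  · have h3 : orderOf (F xs) = 3 := by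
      refine orderOf_eq_prime ?_ fun h => hf1 ((Fintype.equivFinOfCardEq hT3).permCongrHom.injective
        (h.trans (map_one _).symm))
      show (Fintype.equivFinOfCardEq hT3).permCongrHom (f xs) ^ 3 = 1
      rw [← map_pow, hf3, map_one]
    have h4 : orderOf (F xs) ∣ Nat.card F.range := Subgroup.orderOf_dvd_natCard _ ⟨xs, rfl⟩
    rwa [h3] at h4

/-- No offender: `|A| |C_M(A)| < |M|` for nontrivial `A`. -/
theorem card_mul_fix_lt (hM : ∀ m : M, m * m = 1) (φ : X →* MulAut M)
    (hinj : Function.Injective φ) (hS3 : ¬ Cfsg.Involves (Equiv.Perm (Fin 3)) X)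
    (F : Subgroup X) (hodd : Odd (Nat.card F)) (A : Subgroup X)
    (hAc : ∀ a ∈ A, ∀ b ∈ A, a * b = b * a) (hA2 : ∀ a ∈ A, a * a = 1)
    (hAF : A ≤ Subgroup.normalizer (F : Set X))
    (hfaith : ∀ a ∈ A, (∀ f ∈ F, a * f = f * a) → a = 1) (hne : A ≠ ⊥) :
    Nat.card A * Nat.card (fixSub φ A) < Nat.card M := by
  classical
  suffices ∀ n : ℕ, ∀ A : Subgroup X, Nat.card A = n → (∀ a ∈ A, ∀ b ∈ A, a * b = b * a) →
      (∀ a ∈ A, a * a = 1) → A ≤ Subgroup.normalizer (F : Set X) →
      (∀ a ∈ A, (∀ f ∈ F, a * f = f * a) → a = 1) → A ≠ ⊥ →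
      Nat.card A * Nat.card (fixSub φ A) < Nat.card M from
    this _ A rfl hAc hA2 hAF hfaith hne
  clear hne hfaith hAF hA2 hAc A
  intro n
  induction n using Nat.strong_induction_on with
  | _ n ih =>
    intro A hn hAc hA2 hAF hfaith hne
    -- a largest `B` whose centralizer in `F` is moved
    let P : Subgroup X → Prop := fun B => B ≤ A ∧ ∃ f ∈ F, (∀ b ∈ B, b * f = f * b) ∧
      ∃ a ∈ A, a * f ≠ f * a
    have hP0 : P ⊥ := by
      obtain ⟨⟨a, ha⟩, ha1⟩ := (A.ne_bot_iff_exists_ne_one).mp hne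
      by_contra hno
      refine ha1 (Subtype.ext (hfaith a ha fun f hf => ?_))
      by_contra hne'
      exact hno ⟨bot_le, f, hf, fun b hb => by rw [Subgroup.mem_bot.mp hb, one_mul, mul_one],
        a, ha, hne'⟩
    obtain ⟨B, ⟨hBA, f, hf, hfB, a, ha, hne'⟩, hBmax⟩ :=
      Set.Finite.exists_maximal (Set.toFinite {B | P B}) ⟨⊥, hP0⟩
    set K := F ⊓ Subgroup.centralizer (B : Set X) with hK
    have hfK : f ∈ K := ⟨hf, Subgroup.mem_centralizer_iff.mpr hfB⟩
    have hAK : A ≤ Subgroup.normalizer (K : Set X) := by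
      rw [Subgroup.le_normalizer_iff]
      rintro c hc k ⟨hk1, hk2⟩
      refine ⟨(Subgroup.mem_normalizer_iff.mp (hAF hc) k).mp hk1,
        Subgroup.mem_centralizer_iff.mpr fun b hb => ?_⟩
      have h1 := Subgroup.mem_centralizer_iff.mp hk2 b hb
      calc b * (c * k * c⁻¹) = (b * c) * k * c⁻¹ := by group
        _ = (c * b) * k * c⁻¹ := by rw [hAc b (hBA hb) c hc]
        _ = c * (b * k) * c⁻¹ := by group
        _ = c * (k * b) * c⁻¹ := by rw [h1]
        _ = c * k * (b * c⁻¹) := by group
        _ = c * k * (c⁻¹ * b) := by rw [hAc b (hBA hb) c⁻¹ (A.inv_mem hc)]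
        _ = c * k * c⁻¹ * b := by group
    have haB : a ∉ B := fun h => hne' (hfB a h)
    have hidx : ∀ c ∈ A, c ∈ B ∨ c * a ∈ B := by
      intro c hc
      by_contra hno
      push_neg at hno
      obtain ⟨hcB, hcaB⟩ := hno
      let E : Subgroup X :=
        { carrier := {1, c, a, c * a}
          one_mem' := by simp
          inv_mem' := by
            intro g hg
            rcases hg with h | h | h | h <;> subst g <;>
              simp [inv_eq_of_mul_eq_one_right (hA2 _ hc), inv_eq_of_mul_eq_one_right (hA2 _ ha),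
                hAc a ha c hc]
          mul_mem' := by
            have e1 := hA2 c hc
            have e2 := hA2 a ha
            have e3 := hAc a ha c hc
            have e4 : ∀ z, c * (c * z) = z := fun z => by rw [← mul_assoc, e1, one_mul]
            have e5 : ∀ z, a * (a * z) = z := fun z => by rw [← mul_assoc, e2, one_mul]
            have e6 : ∀ z, a * (c * z) = c * (a * z) := fun z => by
              rw [← mul_assoc, e3, mul_assoc]
            intro g k hg hk
            rcases hg with h | h | h | h <;> rcases hk with h' | h' | h' | h' <;> subst g k <;>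
              simp [mul_assoc, e1, e2, e3, e4, e5, e6] }
      have hEA : E ≤ A := by
        intro g hg
        rcases hg with h | h | h | h <;> rw [h]
        exacts [A.one_mem, hc, ha, A.mul_mem hc ha]
      haveI : IsMulCommutative E :=
        ⟨⟨fun u v => Subtype.ext (hAc u (hEA u.2) v (hEA v.2))⟩⟩
      have hc1 : c ≠ 1 := fun h => hcB (h ▸ B.one_mem)
      have ha1 : a ≠ 1 := fun h => haB (h ▸ B.one_mem)
      have hcyc : ¬ IsCyclic E := by
        intro hcy
        obtain ⟨g, hg⟩ := hcy.exists_generator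
        have hg2 : g * g = 1 := Subtype.ext (hA2 _ (hEA g.2))
        have hdich : ∀ u : E, u = 1 ∨ u = g := by
          intro u
          obtain ⟨k, rfl⟩ := Subgroup.mem_zpowers_iff.mp (hg u)
          rcases Int.even_or_odd' k with ⟨j, rfl | rfl⟩
          · left; rw [zpow_mul, zpow_two, hg2, one_zpow]
          · right; rw [zpow_add_one, zpow_mul, zpow_two, hg2, one_zpow, one_mul]
        have hcE : c ∈ E := Or.inr (Or.inl rfl)
        have haE : a ∈ E := Or.inr (Or.inr (Or.inl rfl))
        have hc' := (hdich ⟨c, hcE⟩).resolve_left fun h => hc1 (congrArg Subtype.val h)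
        have ha' := (hdich ⟨a, haE⟩).resolve_left fun h => ha1 (congrArg Subtype.val h)
        have hca : c = a := congrArg Subtype.val (hc'.trans ha'.symm)
        exact hcaB (by rw [hca, hA2 a ha]; exact B.one_mem)
      have hcop : (Nat.card E).Coprime (Nat.card K) := by
        have hE : IsPGroup 2 E := fun u => ⟨1, Subtype.ext (by
          show (u : X) ^ (2 ^ 1) = 1
          rw [pow_one, sq]; exact hA2 _ (hEA u.2))⟩
        obtain ⟨j, hj⟩ := IsPGroup.iff_card.mp hE
        rw [hj]
        exact Nat.Coprime.pow_left j ((Nat.coprime_two_left).mpr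
          (Odd.of_dvd_nat hodd (Subgroup.card_dvd_of_le inf_le_left)))
      have hgen := Coprime.iSup_centralizer_eq (A := E) (K := K) hcyc (hEA.trans hAK) hcop
      have hcent : K ≤ Subgroup.centralizer ({a} : Set X) := by
        rw [← hgen]
        refine iSup₂_le fun e he => ?_
        obtain ⟨heE, he1⟩ := he
        have heB : e ∉ B := by
          rcases heE with h | h | h | h
          exacts [absurd h he1, h ▸ hcB, h ▸ haB, h ▸ hcaB]
        rintro k ⟨hk, hke⟩
        rw [Subgroup.mem_centralizer_iff]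
        rintro _ rfl
        by_contra hka
        refine heB ((hBmax (y := B ⊔ Subgroup.zpowers e) ⟨sup_le hBA
          (Subgroup.zpowers_le.mpr (hEA heE)), k, hk.1, fun b hb => ?_, _, ha, hka⟩ le_sup_left)
            (Subgroup.mem_sup_right (Subgroup.mem_zpowers e)))
        have h1 : B ⊔ Subgroup.zpowers e ≤ Subgroup.centralizer ({k} : Set X) := by
          refine sup_le (fun b' hb' => ?_) (Subgroup.zpowers_le.mpr ?_) <;>
            rw [Subgroup.mem_centralizer_iff] <;> rintro _ rfl
          · exact (Subgroup.mem_centralizer_iff.mp hk.2 b' hb').symm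
          · exact (Subgroup.mem_centralizer_iff.mp hke e rfl).symm
        exact (Subgroup.mem_centralizer_iff.mp (h1 hb) k rfl).symm
      exact hne' (Subgroup.mem_centralizer_iff.mp (hcent hfK) a rfl)
    -- the inverted element
    set x := f⁻¹ * (a * f * a⁻¹) with hxdef
    have hxK : x ∈ K := K.mul_mem (K.inv_mem hfK) ((Subgroup.mem_normalizer_iff.mp (hAK ha) f).mp hfK)
    have ha' : a⁻¹ = a := inv_eq_of_mul_eq_one_right (hA2 a ha)
    have hinv : a * x * a⁻¹ = x⁻¹ := by
      calc a * x * a⁻¹ = a * f⁻¹ * (a * f * (a⁻¹ * a⁻¹)) := by rw [hxdef]; group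
        _ = a * f⁻¹ * (a * f) := by rw [ha', hA2 a ha, mul_one]
        _ = a * f⁻¹ * a⁻¹ * f := by rw [ha']; group
        _ = x⁻¹ := by rw [hxdef]; group
    have hx1 : x ≠ 1 := fun h => hne' (by
      rw [hxdef, inv_mul_eq_one] at h
      conv_rhs => rw [h]
      group)
    have hxodd : Odd (orderOf x) := by
      refine Odd.of_dvd_nat hodd ?_
      rw [← Subgroup.orderOf_mk x hxK.1]
      exact orderOf_dvd_natCard _
    have key := not_card_fix_le hM φ hinj hS3 B (fun u hu v hv => hAc u (hBA hu) v (hBA hv))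
      (fun b hb => hA2 b (hBA hb)) (hA2 a ha) (fun b hb => hAc a ha b (hBA hb))
      (fun b hb => (Subgroup.mem_centralizer_iff.mp hxK.2 b hb).symm) hinv hxodd hx1
    have hfix : fixSub φ B ⊓ fixSub φ (Subgroup.zpowers a) = fixSub φ A := by
      refine le_antisymm (fun m hm c hc => ?_) (le_inf (fun m hm b hb => hm b (hBA hb))
        (fun m hm b hb => hm b (Subgroup.zpowers_le.mpr ha hb)))
      rcases hidx c hc with h | h
      · exact hm.1 c h
      · have e : c = c * a * a := by rw [mul_assoc, hA2 a ha, mul_one]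
        rw [e, apply_mul, hm.2 a (Subgroup.mem_zpowers a), hm.1 _ h]
    rw [hfix] at key
    have hcardA : Nat.card A ≤ 2 * Nat.card B := by
      let g : Bool × B → A := fun u =>
        if u.1 then ⟨(u.2 : X) * a, A.mul_mem (hBA u.2.2) ha⟩ else ⟨u.2, hBA u.2.2⟩
      have hg : Function.Surjective g := by
        rintro ⟨c, hc⟩
        rcases hidx c hc with h | h
        · exact ⟨(false, ⟨c, h⟩), rfl⟩
        · exact ⟨(true, ⟨c * a, h⟩), Subtype.ext (by
            show c * a * a = c
            rw [mul_assoc, hA2 a ha, mul_one])⟩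
      refine (Nat.card_le_card_of_surjective g hg).trans (le_of_eq ?_)
      rw [Nat.card_prod, Nat.card_eq_fintype_card, Fintype.card_bool]
    push_neg at key
    have hB : Nat.card B * Nat.card (fixSub φ B) ≤ Nat.card M := by
      by_cases hB0 : B = ⊥
      · subst hB0
        rw [Subgroup.card_bot, one_mul]
        exact Subgroup.card_le_card_group _
      · refine (ih _ ?_ B rfl (fun u hu v hv => hAc u (hBA hu) v (hBA hv))
          (fun b hb => hA2 b (hBA hb)) (hBA.trans hAF) (fun b hb => hfaith b (hBA hb)) hB0).le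
        rw [← hn]
        exact lt_of_le_of_ne (Subgroup.card_le_of_le hBA)
          fun h => haB (Subgroup.eq_of_le_of_card_ge hBA h.ge ▸ ha)
    calc Nat.card A * Nat.card (fixSub φ A) ≤ 2 * Nat.card B * Nat.card (fixSub φ A) :=
          Nat.mul_le_mul_right _ hcardA
      _ = Nat.card B * (2 * Nat.card (fixSub φ A)) := by ring
      _ < Nat.card B * Nat.card (fixSub φ B) :=
          (Nat.mul_lt_mul_left Nat.card_pos).mpr key
      _ ≤ Nat.card M := hB

end Cfsg.Agent.CF
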